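import Mathlib
import Cfsg.Agent.Lib.SL2.Basic

/-!
# Normalisers in simple groups of order 1092 and in `SL₂(13)`
-/

set_option autoImplicit false

namespace Cfsg.Agent.Lib.PSLThirteen

open Subgroup

section Abstract

variable {K : Type*} [Group K] [Finite K] [IsSimpleGroup K]

theorem thirteen_le_index (hc : Nat.card K = 1092) {H : Subgroup K} (hH : H ≠ ⊤) : 13 ≤ H.index := by
  by_contra hlt
  push Not at hlt
  have hne : H.normalCore ≠ ⊤ := fun h => hH (top_le_iff.mp (h ▸ H.normalCore_le))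
  have hker : (MulAction.toPermHom K (K ⧸ H)).ker = ⊥ := by
    rw [← Subgroup.normalCore_eq_ker]
    exact (IsSimpleGroup.eq_bot_or_eq_top_of_normal _ (Subgroup.normalCore_normal H)).resolve_right hne
  have hd : Nat.card K ∣ H.index.factorial := by
    rw [Subgroup.index_eq_card, ← Nat.card_perm]
    exact Subgroup.card_dvd_of_injective _ ((MonoidHom.ker_eq_bot_iff _).mp hker)
  have h13 : 13 ∣ H.index.factorial := (hc ▸ (by norm_num : 13 ∣ 1092) : 13 ∣ Nat.card K).trans hd
  have := (Nat.Prime.dvd_factorial (by norm_num)).mp h13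
  omega

theorem card_le (hc : Nat.card K = 1092) {H : Subgroup K} (hH : H ≠ ⊤) : Nat.card H ≤ 84 := by
  have h1 := H.card_mul_index
  have h2 := thirteen_le_index hc hH
  rw [hc] at h1
  have h3 : Nat.card H * 13 ≤ 1092 := h1 ▸ Nat.mul_le_mul_left _ h2
  omega

theorem normalizer_ne_top {H : Subgroup K} (h1 : H ≠ ⊥) (h2 : H ≠ ⊤) :
    Subgroup.normalizer (H : Set K) ≠ ⊤ := fun h =>
  (IsSimpleGroup.eq_bot_or_eq_top_of_normal H (Subgroup.normalizer_eq_top_iff.mp h)).elim h1 h2

theorem sylow_card (hc : Nat.card K = 1092) {p k : ℕ} [hp : Fact p.Prime] (hk : p ^ k ∣ 1092)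
    (hk1 : ¬ p ^ (k + 1) ∣ 1092) (P : Sylow p K) : Nat.card (P : Subgroup K) = p ^ k := by
  obtain ⟨e, he⟩ := P.2.exists_card_eq
  have h1 : p ^ k ∣ Nat.card (P : Subgroup K) := P.pow_dvd_card_of_pow_dvd_card (hc ▸ hk)
  have h2 : p ^ e ∣ 1092 := he ▸ hc ▸ (P : Subgroup K).card_subgroup_dvd_card
  rw [he, Nat.pow_dvd_pow_iff_le_right hp.out.one_lt] at h1
  rw [he]
  rcases Nat.eq_or_lt_of_le h1 with h | h
  · rw [h]
  · exact absurd ((pow_dvd_pow p h).trans h2) hk1

theorem card_sylow_mul (hc : Nat.card K = 1092) {p : ℕ} [Fact p.Prime] (P : Sylow p K) :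
    Nat.card (Sylow p K) * Nat.card (normalizer ((P : Subgroup K) : Set K)) = 1092 := by
  rw [P.card_eq_index_normalizer]
  exact (normalizer ((P : Subgroup K) : Set K)).index_mul_card.trans hc

theorem card_sylow_ne_one {p : ℕ} [Fact p.Prime] (P : Sylow p K) (h1 : (P : Subgroup K) ≠ ⊥)
    (h2 : (P : Subgroup K) ≠ ⊤) : Nat.card (Sylow p K) ≠ 1 := by
  rw [P.card_eq_index_normalizer]
  exact fun h => normalizer_ne_top h1 h2 (Subgroup.index_eq_one.mp h)

theorem ne_bot_top_of_card (hc : Nat.card K = 1092) {H : Subgroup K} {n : ℕ} (h : Nat.card H = n)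
    (h1 : n ≠ 1) (h2 : n ≠ 1092) : H ≠ ⊥ ∧ H ≠ ⊤ := by
  constructor
  · rintro rfl; rw [Subgroup.card_bot] at h; exact h1 h.symm
  · rintro rfl; rw [Subgroup.card_top, hc] at h; exact h2 h.symm

theorem normalizer_thirteen (hc : Nat.card K = 1092) [Fact (Nat.Prime 13)] (P : Sylow 13 K) :
    Nat.card (P : Subgroup K) = 13 ∧ Nat.card (normalizer ((P : Subgroup K) : Set K)) = 78 := by
  have h1 : Nat.card (P : Subgroup K) = 13 := by
    simpa using sylow_card hc (p := 13) (k := 1) (by norm_num) (by norm_num) P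
  obtain ⟨hb, ht⟩ := ne_bot_top_of_card hc h1 (by norm_num) (by norm_num)
  have h2 := card_sylow_mul hc P
  have h3 := card_sylow_modEq_one 13 K
  have h4 : Nat.card (Sylow 13 K) ∣ 84 := by
    have h5 := P.card_dvd_index
    have h6 := (P : Subgroup K).card_mul_index
    rw [h1, hc] at h6
    rwa [show (P : Subgroup K).index = 84 by omega] at h5
  have h7 := card_sylow_ne_one P hb ht
  refine ⟨h1, ?_⟩
  have h8 := Nat.le_of_dvd (by norm_num) h4
  generalize Nat.card (Sylow 13 K) = n at h2 h3 h4 h7 h8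
  unfold Nat.ModEq at h3
  interval_cases n <;> omega

theorem normalizer_seven (hc : Nat.card K = 1092) [Fact (Nat.Prime 7)] (P : Sylow 7 K) :
    Nat.card (P : Subgroup K) = 7 ∧ Nat.card (normalizer ((P : Subgroup K) : Set K)) = 14 := by
  have h1 : Nat.card (P : Subgroup K) = 7 := by
    simpa using sylow_card hc (p := 7) (k := 1) (by norm_num) (by norm_num) P
  obtain ⟨hb, ht⟩ := ne_bot_top_of_card hc h1 (by norm_num) (by norm_num)
  have h2 := card_sylow_mul hc P
  have h3 := card_sylow_modEq_one 7 K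
  have h4 : Nat.card (Sylow 7 K) ∣ 156 := by
    have h5 := P.card_dvd_index
    have h6 := (P : Subgroup K).card_mul_index
    rw [h1, hc] at h6
    rwa [show (P : Subgroup K).index = 156 by omega] at h5
  have h7 := card_sylow_ne_one P hb ht
  refine ⟨h1, ?_⟩
  have h8 := Nat.le_of_dvd (by norm_num) h4
  have h9 : Nat.card (Sylow 7 K) ∈ Nat.divisors 156 := Nat.mem_divisors.mpr ⟨h4, by norm_num⟩
  generalize Nat.card (Sylow 7 K) = n at h2 h3 h7 h9
  unfold Nat.ModEq at h3
  rw [show Nat.divisors 156 = {1, 2, 3, 4, 6, 12, 13, 26, 39, 52, 78, 156} by decide] at h9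
  simp only [Finset.mem_insert, Finset.mem_singleton] at h9
  rcases h9 with rfl | rfl | rfl | rfl | rfl | rfl | rfl | rfl | rfl | rfl | rfl | rfl <;> omega

theorem card_dvd_of_seven (hc : Nat.card K = 1092) [Fact (Nat.Prime 7)] {H : Subgroup K} (hH : H ≠ ⊤)
    (h7 : 7 ∣ Nat.card H) :
    ∃ P : Sylow 7 K, (P : Subgroup K) ≤ H ∧ H ≤ normalizer ((P : Subgroup K) : Set K) := by
  obtain ⟨Q⟩ : Nonempty (Sylow 7 H) := inferInstance
  have hcle := card_le hc hH
  have hQ : 7 ∣ Nat.card (Q : Subgroup H) := by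
    simpa using Q.pow_dvd_card_of_pow_dvd_card (n := 1) (by simpa using h7)
  obtain ⟨P, hP⟩ := (Q.2.map H.subtype).exists_le_sylow
  have hQP : (Q : Subgroup H).map H.subtype = P := by
    refine eq_of_le_of_card_ge hP ?_
    rw [(normalizer_seven hc P).1, card_map_of_injective H.subtype_injective]
    exact Nat.le_of_dvd Nat.card_pos hQ
  refine ⟨P, hQP ▸ map_subtype_le _, ?_⟩
  have hn : Nat.card (Sylow 7 H) = 1 := by
    have h1 := Q.card_dvd_index
    have h2 := card_sylow_modEq_one 7 H
    have h3 := (Q : Subgroup H).card_mul_index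
    have h4 : Nat.card (Q : Subgroup H) = 7 := by
      rw [← card_map_of_injective H.subtype_injective, hQP, (normalizer_seven hc P).1]
    rw [h4] at h3
    have h5 : (Q : Subgroup H).index ∣ 156 := by
      have : Nat.card H ∣ 1092 := hc ▸ H.card_subgroup_dvd_card
      rw [← h3] at this
      exact Nat.dvd_of_mul_dvd_mul_left (by norm_num : 0 < 7) (by simpa using this)
    have h6 : (Q : Subgroup H).index ≤ 12 := by omega
    have h8 := Nat.le_of_dvd (Nat.pos_of_ne_zero Subgroup.index_ne_zero_of_finite) h1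
    have h9 : Nat.card (Sylow 7 H) ∣ 156 := h1.trans h5
    generalize Nat.card (Sylow 7 H) = n at h2 h8 h9
    unfold Nat.ModEq at h2
    have h8' : n ≤ 12 := h8.trans h6
    interval_cases n <;> omega
  haveI : Subsingleton (Sylow 7 H) := (Nat.card_eq_one_iff_unique.mp hn).1
  haveI := Q.normal_of_subsingleton
  intro g hg
  rw [← hQP, Subgroup.mem_normalizer_iff]
  intro x
  constructor
  · rintro ⟨y, hy, rfl⟩
    exact ⟨⟨g, hg⟩ * y * ⟨g, hg⟩⁻¹, Subgroup.Normal.conj_mem inferInstance y hy _, rfl⟩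
  · rintro ⟨y, hy, hxy⟩
    refine ⟨⟨g, hg⟩⁻¹ * y * ⟨g, hg⟩, Subgroup.Normal.conj_mem' inferInstance y hy _, ?_⟩
    show g⁻¹ * (y : K) * g = x
    rw [show (y : K) = g * x * g⁻¹ from hxy]
    group

theorem card_dvd_of_thirteen (hc : Nat.card K = 1092) [Fact (Nat.Prime 13)] {H : Subgroup K} (hH : H ≠ ⊤)
    (h13 : 13 ∣ Nat.card H) :
    ∃ P : Sylow 13 K, (P : Subgroup K) ≤ H ∧ H ≤ normalizer ((P : Subgroup K) : Set K) := by
  obtain ⟨Q⟩ : Nonempty (Sylow 13 H) := inferInstance
  have hcle := card_le hc hH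
  have hQ : 13 ∣ Nat.card (Q : Subgroup H) := by
    simpa using Q.pow_dvd_card_of_pow_dvd_card (n := 1) (by simpa using h13)
  obtain ⟨P, hP⟩ := (Q.2.map H.subtype).exists_le_sylow
  have hQP : (Q : Subgroup H).map H.subtype = P := by
    refine eq_of_le_of_card_ge hP ?_
    rw [(normalizer_thirteen hc P).1, card_map_of_injective H.subtype_injective]
    exact Nat.le_of_dvd Nat.card_pos hQ
  refine ⟨P, hQP ▸ map_subtype_le _, ?_⟩
  have hn : Nat.card (Sylow 13 H) = 1 := by
    have h1 := Q.card_dvd_index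
    have h2 := card_sylow_modEq_one 13 H
    have h3 := (Q : Subgroup H).card_mul_index
    have h4 : Nat.card (Q : Subgroup H) = 13 := by
      rw [← card_map_of_injective H.subtype_injective, hQP, (normalizer_thirteen hc P).1]
    rw [h4] at h3
    have h6 : (Q : Subgroup H).index ≤ 6 := by omega
    have h8 := Nat.le_of_dvd (Nat.pos_of_ne_zero Subgroup.index_ne_zero_of_finite) h1
    generalize Nat.card (Sylow 13 H) = n at h2 h8
    unfold Nat.ModEq at h2
    omega
  haveI : Subsingleton (Sylow 13 H) := (Nat.card_eq_one_iff_unique.mp hn).1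
  haveI := Q.normal_of_subsingleton
  intro g hg
  rw [← hQP, Subgroup.mem_normalizer_iff]
  intro x
  constructor
  · rintro ⟨y, hy, rfl⟩
    exact ⟨⟨g, hg⟩ * y * ⟨g, hg⟩⁻¹, Subgroup.Normal.conj_mem inferInstance y hy _, rfl⟩
  · rintro ⟨y, hy, hxy⟩
    refine ⟨⟨g, hg⟩⁻¹ * y * ⟨g, hg⟩, Subgroup.Normal.conj_mem' inferInstance y hy _, ?_⟩
    show g⁻¹ * (y : K) * g = x
    rw [show (y : K) = g * x * g⁻¹ from hxy]
    group

/-- The possible orders of proper subgroups. -/
theorem card_cases (hc : Nat.card K = 1092) {H : Subgroup K} (hH : H ≠ ⊤) :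
    Nat.card H ∣ 12 ∨ Nat.card H ∣ 14 ∨ Nat.card H ∣ 78 := by
  haveI : Fact (Nat.Prime 7) := ⟨by norm_num⟩
  haveI : Fact (Nat.Prime 13) := ⟨by norm_num⟩
  by_cases h7 : 7 ∣ Nat.card H
  · obtain ⟨P, -, hle⟩ := card_dvd_of_seven hc hH h7
    exact Or.inr (Or.inl ((normalizer_seven hc P).2 ▸ Subgroup.card_dvd_of_le hle))
  by_cases h13 : 13 ∣ Nat.card H
  · obtain ⟨P, -, hle⟩ := card_dvd_of_thirteen hc hH h13
    exact Or.inr (Or.inr ((normalizer_thirteen hc P).2 ▸ Subgroup.card_dvd_of_le hle))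
  refine Or.inl (Nat.Coprime.dvd_of_dvd_mul_right (n := 91) ?_ ?_)
  · rw [show 91 = 7 * 13 by norm_num]
    exact Nat.Coprime.mul_right ((Nat.coprime_comm.mp ((Nat.Prime.coprime_iff_not_dvd (by norm_num)).mpr h7)))
      ((Nat.coprime_comm.mp ((Nat.Prime.coprime_iff_not_dvd (by norm_num)).mpr h13)))
  · exact (H.card_subgroup_dvd_card).trans hc.dvd

/-- A `p`-element normalising a subgroup with fewer than `p` elements besides `1` centralises it. -/
theorem commute_of_small {p : ℕ} [hp : Fact p.Prime] {S : Subgroup K} (hS : Nat.card S ≤ p) {x : K}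
    (hx : x ∈ normalizer (S : Set K)) (ho : orderOf x = p) {s : K} (hs : s ∈ S) :
    x * s = s * x := by
  by_contra hne
  let act : MulAction (zpowers x) S :=
    { smul := fun g w => ⟨(g : K) * (w : K) * (g : K)⁻¹,
        (mem_normalizer_iff.mp (zpowers_le.mpr hx g.2) w).mp w.2⟩
      one_smul := fun w => Subtype.ext (by show (1 : K) * (w : K) * (1 : K)⁻¹ = w; simp)
      mul_smul := fun g h w => Subtype.ext (by
        show (g : K) * (h : K) * (w : K) * ((g : K) * (h : K))⁻¹ = (g : K) * ((h : K) * (w : K) * (h : K)⁻¹) * (g : K)⁻¹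
        group) }
  have hz : IsPGroup p (zpowers x) := IsPGroup.of_card (n := 1) (by rw [Nat.card_zpowers, ho, pow_one])
  obtain ⟨k, hk⟩ := hz.card_orbit (⟨s, hs⟩ : S)
  rcases Nat.eq_zero_or_pos k with rfl | hk0
  · rw [pow_zero, Nat.card_eq_one_iff_unique] at hk
    haveI := hk.1
    have h1 : ((⟨x, mem_zpowers x⟩ : zpowers x) • (⟨s, hs⟩ : S)) = ⟨s, hs⟩ :=
      congrArg Subtype.val (Subsingleton.elim
        (⟨_, MulAction.mem_orbit _ _⟩ : MulAction.orbit (zpowers x) (⟨s, hs⟩ : S))
        ⟨_, MulAction.mem_orbit_self _⟩)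
    exact hne (mul_inv_eq_iff_eq_mul.mp (congrArg Subtype.val h1))
  · have h1 : p ≤ Nat.card (MulAction.orbit (zpowers x) (⟨s, hs⟩ : S)) := hk ▸ Nat.le_self_pow hk0.ne' p
    have hnot : (1 : S) ∉ MulAction.orbit (zpowers x) (⟨s, hs⟩ : S) := by
      rintro ⟨g, hg⟩
      have h2 : (g : K) * s * (g : K)⁻¹ = 1 := congrArg Subtype.val hg
      rw [conj_eq_one_iff] at h2
      exact hne (by rw [h2, mul_one, one_mul])
    have h2 : Nat.card (MulAction.orbit (zpowers x) (⟨s, hs⟩ : S)) < Nat.card S := by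
      rw [Nat.card_coe_set_eq, ← Set.ncard_univ]
      exact Set.ncard_lt_ncard ((Set.ssubset_univ_iff).mpr fun h => hnot (h ▸ Set.mem_univ _))
    omega

theorem normalizer_not_le_centralizer (hc : Nat.card K = 1092) {p : ℕ} [Fact p.Prime] (P : Sylow p K)
    (h1 : (P : Subgroup K) ≠ ⊥) (h2 : (P : Subgroup K) ≠ ⊤) :
    ¬ normalizer ((P : Subgroup K) : Set K) ≤ centralizer ((P : Subgroup K) : Set K) := by
  intro h
  have hc' := MonoidHom.ker_transferSylow_isComplement' P h
  rcases IsSimpleGroup.eq_bot_or_eq_top_of_normal _ (inferInstance : (MonoidHom.transferSylow P h).ker.Normal) with h3 | h3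
  · rw [h3] at hc'
    exact h2 (by simpa using hc')
  · rw [h3] at hc'
    exact h1 (by simpa using hc')

theorem normalizer_three (hc : Nat.card K = 1092) [Fact (Nat.Prime 3)] (P : Sylow 3 K) :
    Nat.card (P : Subgroup K) = 3 ∧ Nat.card (normalizer ((P : Subgroup K) : Set K)) = 12 := by
  haveI : Fact (Nat.Prime 7) := ⟨by norm_num⟩
  haveI : Fact (Nat.Prime 13) := ⟨by norm_num⟩
  have h1 : Nat.card (P : Subgroup K) = 3 := by
    simpa using sylow_card hc (p := 3) (k := 1) (by norm_num) (by norm_num) P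
  refine ⟨h1, ?_⟩
  obtain ⟨hb, ht⟩ := ne_bot_top_of_card hc h1 (by norm_num) (by norm_num)
  set N := normalizer ((P : Subgroup K) : Set K) with hN
  have hNt : N ≠ ⊤ := normalizer_ne_top hb ht
  have h3N : 3 ∣ Nat.card N := h1 ▸ Subgroup.card_dvd_of_le le_normalizer
  have hn7 : ¬ 7 ∣ Nat.card N := by
    intro h7
    obtain ⟨Q, -, hle⟩ := card_dvd_of_seven hc hNt h7
    have := h3N.trans (Subgroup.card_dvd_of_le hle)
    rw [(normalizer_seven hc Q).2] at this
    norm_num at this
  have h2N : 2 ∣ Nat.card N := by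
    by_contra h2
    apply normalizer_not_le_centralizer hc P hb ht
    intro x hx
    rw [mem_centralizer_iff]
    intro s hs
    -- the square of the conjugation fixes `P` pointwise, and `x` has odd order
    have hsq : ∀ s' ∈ (P : Subgroup K), (x * x) * s' = s' * (x * x) := by
      intro s' hs'
      by_cases hs1 : s' = 1
      · rw [hs1, mul_one, one_mul]
      have hgen : ∀ t ∈ (P : Subgroup K), t = 1 ∨ t = s' ∨ t = s'⁻¹ := by
        intro t ht
        haveI := isCyclic_of_prime_card h1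
        have hz : zpowers s' = (P : Subgroup K) := by
          refine eq_of_le_of_card_ge (zpowers_le.mpr hs') ?_
          rw [h1, Nat.card_zpowers]
          have h5 : orderOf s' ∣ 3 := h1 ▸ (P : Subgroup K).orderOf_dvd_natCard hs'
          rcases (Nat.dvd_prime (by norm_num)).mp h5 with h | h
          · exact absurd (orderOf_eq_one_iff.mp h) hs1
          · omega
        obtain ⟨i, hi⟩ := mem_powers_iff_mem_zpowers.mpr (hz ▸ ht)
        simp only at hi
        have h3 : s' ^ 3 = 1 := by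
          rw [← orderOf_dvd_iff_pow_eq_one]
          exact h1 ▸ (P : Subgroup K).orderOf_dvd_natCard hs'
        rw [← Nat.mod_add_div i 3, pow_add, pow_mul, h3, one_pow, mul_one] at hi
        have := Nat.mod_lt i (show 3 > 0 by norm_num)
        interval_cases i % 3
        · exact Or.inl (by rw [← hi, pow_zero])
        · exact Or.inr (Or.inl (by rw [← hi, pow_one]))
        · exact Or.inr (Or.inr (by rw [← hi]; exact eq_inv_of_mul_eq_one_left (by rw [← pow_succ]; exact h3)))
      rcases hgen _ ((mem_normalizer_iff.mp hx s').mp hs') with h | h | h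
      · exact absurd (conj_eq_one_iff.mp h) hs1
      · rw [mul_inv_eq_iff_eq_mul] at h
        rw [mul_assoc, h, ← mul_assoc, h, mul_assoc]
      · have e : x * (x * s' * x⁻¹) * x⁻¹ = s' := by
          rw [h, show x * s'⁻¹ * x⁻¹ = (x * s' * x⁻¹)⁻¹ by group, h, inv_inv]
        calc x * x * s' = x * (x * s' * x⁻¹) * x⁻¹ * (x * x) := by group
          _ = s' * (x * x) := by rw [e]
    have hodd : Odd (orderOf x) := by
      rw [← Nat.not_even_iff_odd, even_iff_two_dvd]
      exact fun h => h2 (h.trans (N.orderOf_dvd_natCard hx))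
    obtain ⟨k, hk⟩ := hodd
    have hxx : x = (x * x) ^ (k + 1) := by
      rw [← sq, ← pow_mul, show 2 * (k + 1) = orderOf x + 1 by omega, pow_succ, pow_orderOf_eq_one, one_mul]
    rw [hxx]
    exact ((show Commute (x * x) s from hsq s hs).pow_left (k + 1)).eq.symm
  rcases card_cases hc hNt with h | h | h
  · have h6 : 6 ∣ Nat.card N := Nat.Coprime.mul_dvd_of_dvd_of_dvd (by norm_num : Nat.Coprime 2 3) h2N h3N
    have h10 := card_sylow_mul hc P
    have h11 := card_sylow_modEq_one 3 K
    have h12 := Nat.le_of_dvd (by norm_num) h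
    unfold Nat.ModEq at h11
    obtain ⟨c, hc6⟩ := h6
    have hc2 : c = 1 ∨ c = 2 := by
      have : 0 < Nat.card N := Nat.card_pos
      omega
    rcases hc2 with rfl | rfl <;> rw [hc6] at h10 <;> omega
  · exact absurd (h3N.trans h) (by norm_num)
  · have h13 : ¬ 13 ∣ Nat.card N := by
      intro h13
      obtain ⟨x, hx⟩ := exists_prime_orderOf_dvd_card' (G := N) 13 h13
      obtain ⟨Q, hQN, hNQ⟩ := card_dvd_of_thirteen hc hNt h13
      have hmod := card_sylow_modEq_one 3 K
      have hm := card_sylow_mul hc P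
      obtain ⟨c, hc39⟩ : 39 ∣ Nat.card N := Nat.Coprime.mul_dvd_of_dvd_of_dvd (by norm_num : Nat.Coprime 3 13) h3N h13
      have hle := Nat.le_of_dvd (by norm_num) h
      have hc2 : c = 2 := by
        obtain ⟨d, hd⟩ := h2N
        omega
      unfold Nat.ModEq at hmod
      rw [hc39, hc2] at hm
      omega
    have h6 : Nat.card N ∣ 6 := by
      refine Nat.Coprime.dvd_of_dvd_mul_right (n := 13) ?_ h
      exact Nat.coprime_comm.mp ((Nat.Prime.coprime_iff_not_dvd (by norm_num)).mpr h13)
    have h10 := card_sylow_mul hc P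
    have h11 := card_sylow_modEq_one 3 K
    unfold Nat.ModEq at h11
    have h66 : Nat.card N = 6 :=
      Nat.dvd_antisymm h6 (Nat.Coprime.mul_dvd_of_dvd_of_dvd (by norm_num : Nat.Coprime 2 3) h2N h3N)
    rw [h66] at h10
    omega

theorem normalizer_two (hc : Nat.card K = 1092) [Fact (Nat.Prime 2)] (P : Sylow 2 K) :
    Nat.card (P : Subgroup K) = 4 ∧ Nat.card (normalizer ((P : Subgroup K) : Set K)) = 12 ∧
      ∀ s ∈ (P : Subgroup K), ∀ t ∈ (P : Subgroup K), s ≠ 1 → t ≠ 1 → IsConj s t := by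
  haveI : Fact (Nat.Prime 3) := ⟨by norm_num⟩
  haveI : Fact (Nat.Prime 7) := ⟨by norm_num⟩
  haveI : Fact (Nat.Prime 13) := ⟨by norm_num⟩
  have h1 : Nat.card (P : Subgroup K) = 4 := by
    simpa using sylow_card hc (p := 2) (k := 2) (by norm_num) (by norm_num) P
  obtain ⟨hb, ht⟩ := ne_bot_top_of_card hc h1 (by norm_num) (by norm_num)
  haveI : IsMulCommutative (P : Subgroup K) := IsPGroup.isMulCommutative_of_card_eq_prime_sq (p := 2) (by rw [h1]; norm_num)
  set N := normalizer ((P : Subgroup K) : Set K) with hN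
  have hNt : N ≠ ⊤ := normalizer_ne_top hb ht
  have h4N : 4 ∣ Nat.card N := h1 ▸ Subgroup.card_dvd_of_le le_normalizer
  have h12 : Nat.card N ∣ 12 := by
    rcases card_cases hc hNt with h | h | h
    · exact h
    · exact absurd (h4N.trans h) (by norm_num)
    · exact absurd (h4N.trans h) (by norm_num)
  have hPC : (P : Subgroup K) ≤ centralizer ((P : Subgroup K) : Set K) := Subgroup.le_centralizer _
  have h3 : 3 ∣ Nat.card N := by
    by_contra h3
    have : Nat.card N ∣ 4 :=
      Nat.Coprime.dvd_of_dvd_mul_right (n := 3) (Nat.coprime_comm.mp ((Nat.Prime.coprime_iff_not_dvd (by norm_num)).mpr h3)) (show Nat.card N ∣ 4 * 3 from h12)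
    have hNP : (P : Subgroup K) = N := eq_of_le_of_card_ge le_normalizer
      (by rw [h1]; exact Nat.le_of_dvd (by norm_num) this)
    exact normalizer_not_le_centralizer hc P hb ht (hNP.symm.le.trans hPC)
  have hN12 : Nat.card N = 12 :=
    Nat.dvd_antisymm h12 (Nat.Coprime.mul_dvd_of_dvd_of_dvd (by norm_num : Nat.Coprime 4 3) h4N h3)
  refine ⟨h1, hN12, ?_⟩
  obtain ⟨⟨x, hxN⟩, hx⟩ := exists_prime_orderOf_dvd_card' (G := N) 3 h3
  rw [Subgroup.orderOf_mk] at hx
  have hxc : x ∉ centralizer ((P : Subgroup K) : Set K) := by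
    intro hxc
    apply normalizer_not_le_centralizer hc P hb ht
    have hsup : (P : Subgroup K) ⊔ zpowers x = N := by
      refine eq_of_le_of_card_ge (sup_le le_normalizer (zpowers_le.mpr hxN)) ?_
      rw [hN12]
      refine Nat.le_of_dvd Nat.card_pos (Nat.Coprime.mul_dvd_of_dvd_of_dvd (by norm_num : Nat.Coprime 4 3) ?_ ?_)
      · exact h1 ▸ Subgroup.card_dvd_of_le le_sup_left
      · exact hx ▸ Nat.card_zpowers x ▸ Subgroup.card_dvd_of_le le_sup_right
    rw [← hN, ← hsup]
    exact sup_le hPC (zpowers_le.mpr hxc)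
  have hfree : ∀ s ∈ (P : Subgroup K), x * s * x⁻¹ = s → s = 1 := by
    intro s hs hfix
    by_contra hs1
    apply hxc
    rw [mem_centralizer_iff]
    intro t ht'
    -- `x` normalises `⟨s⟩ ∪ (P \ ⟨s⟩)`, and the latter has at most two elements
    let S : Set K := {w | w ∈ (P : Subgroup K) ∧ w ≠ 1 ∧ w ≠ s}
    have hcard : S.ncard = 2 := by
      have h4 : ((P : Subgroup K) : Set K).ncard = 4 := by rw [← Nat.card_coe_set_eq]; exact h1
      have he : S = ((P : Subgroup K) : Set K) \ {1, s} := by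
        ext w; simp [S]; intros; rfl
      rw [he, Set.ncard_sdiff (by intro w hw; rcases hw with rfl | rfl; exacts [one_mem _, hs]),
        h4, Set.ncard_pair (Ne.symm hs1)]
    obtain ⟨u, v, huv, hS⟩ := Set.ncard_eq_two.mp hcard
    have hmap : ∀ w ∈ S, x * w * x⁻¹ ∈ S := by
      rintro w ⟨hw, hw1, hws⟩
      refine ⟨(mem_normalizer_iff.mp hxN w).mp hw, fun h => hw1 (conj_eq_one_iff.mp h), fun h => hws ?_⟩
      rw [← hfix] at h
      exact (MulAut.conj x).injective h
    have hfix2 : ∀ w ∈ S, x * w * x⁻¹ = w := by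
      intro w hw
      by_contra hne
      have h2 : x * (x * w * x⁻¹) * x⁻¹ = w := by
        have ha := hmap w hw
        have hb' := hmap _ ha
        have hne2 : x * (x * w * x⁻¹) * x⁻¹ ≠ x * w * x⁻¹ := fun h => hne ((MulAut.conj x).injective h)
        rw [hS] at hw ha hb'
        simp only [Set.mem_insert_iff, Set.mem_singleton_iff] at hw ha hb'
        rcases hw with hw | hw <;> rcases ha with ha | ha <;> rcases hb' with hb' | hb' <;>
          first
            | exact hb'.trans hw.symm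
            | exact absurd (ha.trans hw.symm) hne
            | exact absurd (hb'.trans ha.symm) hne2
      have hx3 : x ^ 3 = 1 := hx ▸ pow_orderOf_eq_one x
      apply hne
      calc x * w * x⁻¹ = x * (x * (x * w * x⁻¹) * x⁻¹) * x⁻¹ := by rw [h2]
        _ = x ^ 3 * w * (x ^ 3)⁻¹ := by simp only [pow_three]; group
        _ = w := by rw [hx3]; group
    by_cases ht1 : t = 1
    · rw [ht1, one_mul, mul_one]
    by_cases hts : t = s
    · subst hts; exact (mul_inv_eq_iff_eq_mul.mp hfix).symm
    exact (mul_inv_eq_iff_eq_mul.mp (hfix2 t ⟨ht', ht1, hts⟩)).symm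
  intro s hs t ht' hs1 ht1
  have h3' : x ^ 3 = 1 := hx ▸ pow_orderOf_eq_one x
  let T : Set K := {s, x * s * x⁻¹, x * (x * s * x⁻¹) * x⁻¹}
  have hs1' := fun h => hs1 (hfree s hs h)
  have hmem1 := (mem_normalizer_iff.mp hxN s).mp hs
  have hmem2 := (mem_normalizer_iff.mp hxN _).mp hmem1
  have hd2 : s ≠ x * (x * s * x⁻¹) * x⁻¹ := by
    intro h
    apply hs1'
    calc x * s * x⁻¹ = x * (x * (x * s * x⁻¹) * x⁻¹) * x⁻¹ := by rw [← h]
      _ = x ^ 3 * s * (x ^ 3)⁻¹ := by simp only [pow_three]; group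
      _ = s := by rw [h3']; group
  have hd3 : x * s * x⁻¹ ≠ x * (x * s * x⁻¹) * x⁻¹ := fun h => hs1' ((MulAut.conj x).injective h.symm)
  have hT : T = ((P : Subgroup K) : Set K) \ {1} := by
    refine Set.eq_of_subset_of_ncard_le ?_ ?_ (Set.toFinite _)
    · rintro w (rfl | rfl | rfl)
      · exact ⟨hs, hs1⟩
      · exact ⟨hmem1, fun h => hs1 (conj_eq_one_iff.mp h)⟩
      · exact ⟨hmem2, fun h => hs1 (conj_eq_one_iff.mp (conj_eq_one_iff.mp h))⟩
    · have h4 : ((P : Subgroup K) : Set K).ncard = 4 := by rw [← Nat.card_coe_set_eq]; exact h1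
      rw [Set.ncard_sdiff (by simp), h4, Set.ncard_singleton, Set.ncard_eq_three.mpr
        ⟨s, _, _, fun h => hs1' h.symm, hd2, hd3, rfl⟩]
  have hmem : t ∈ T := hT ▸ ⟨ht', ht1⟩
  rcases hmem with rfl | rfl | rfl
  · exact IsConj.refl _
  · exact isConj_iff.mpr ⟨x, rfl⟩
  · exact isConj_iff.mpr ⟨x * x, by group⟩

theorem normalizer_card (hc : Nat.card K = 1092) (g₆ : K) (hg₆ : orderOf g₆ = 6) {H : Subgroup K}
    (h1 : H ≠ ⊥) (h2 : H ≠ ⊤) :
    Nat.card (normalizer (H : Set K)) = 12 ∨ Nat.card (normalizer (H : Set K)) = 14 ∨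
      Nat.card (normalizer (H : Set K)) = 78 := by
  haveI : Fact (Nat.Prime 2) := ⟨Nat.prime_two⟩
  haveI : Fact (Nat.Prime 3) := ⟨by norm_num⟩
  haveI : Fact (Nat.Prime 7) := ⟨by norm_num⟩
  haveI : Fact (Nat.Prime 13) := ⟨by norm_num⟩
  have hN := normalizer_ne_top h1 h2
  have hHN : Nat.card H ∣ Nat.card (normalizer (H : Set K)) := Subgroup.card_dvd_of_le le_normalizer
  have hinv : ∀ t : K, orderOf t = 2 → 12 ∣ Nat.card (centralizer ({t} : Set K)) ∧ centralizer ({t} : Set K) ≠ ⊤ := by
    have hmemP : ∀ t : K, orderOf t = 2 → ∃ P : Sylow 2 K, t ∈ (P : Subgroup K) ∧ t ≠ 1 := by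
      intro t ht
      obtain ⟨P, hP⟩ := (IsPGroup.of_card (p := 2) (n := 1)
        (show Nat.card (zpowers t) = 2 ^ 1 by rw [Nat.card_zpowers, ht, pow_one])).exists_le_sylow
      exact ⟨P, hP (mem_zpowers t), fun h => by simp [h] at ht⟩
    intro t ht
    obtain ⟨P, htP, ht1⟩ := hmemP t ht
    have hne : centralizer ({t} : Set K) ≠ ⊤ := by
      intro h
      have hz : t ∈ center K := by
        rw [mem_center_iff]
        intro y
        exact mem_centralizer_singleton_iff.mp (h ▸ mem_top y)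
      rcases IsSimpleGroup.eq_bot_or_eq_top_of_normal (center K) inferInstance with hb | hb
      · exact ht1 (mem_bot.mp (hb ▸ hz))
      · obtain ⟨hb', ht'⟩ := ne_bot_top_of_card hc (normalizer_three hc default).1 (by norm_num) (by norm_num)
        refine normalizer_not_le_centralizer hc (default : Sylow 3 K) hb' ht' fun w _ => ?_
        rw [mem_centralizer_iff]
        intro y _
        exact mem_center_iff.mp (hb ▸ mem_top w) y
    refine ⟨Nat.Coprime.mul_dvd_of_dvd_of_dvd (by norm_num : Nat.Coprime 4 3) ?_ ?_, hne⟩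
    · haveI : IsMulCommutative (P : Subgroup K) :=
        IsPGroup.isMulCommutative_of_card_eq_prime_sq (p := 2) (by rw [(normalizer_two hc P).1]; norm_num)
      rw [← (normalizer_two hc P).1]
      refine Subgroup.card_dvd_of_le fun w hw => mem_centralizer_singleton_iff.mpr ?_
      exact congrArg Subtype.val (mul_comm' (⟨w, hw⟩ : (P : Subgroup K)) ⟨t, htP⟩)
    · -- every involution is conjugate to `g₆ ^ 3`
      have ho : orderOf (g₆ ^ 3) = 2 := by
        rw [orderOf_pow_of_dvd (by norm_num) (by rw [hg₆]; norm_num), hg₆]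
      obtain ⟨P', hP', hne'⟩ := hmemP _ ho
      obtain ⟨a, ha⟩ := MulAction.exists_smul_eq K P' P
      have hmem : a * g₆ ^ 3 * a⁻¹ ∈ (P : Subgroup K) := by
        rw [← ha]
        exact ⟨_, hP', rfl⟩
      obtain ⟨b, hb⟩ := isConj_iff.mp ((normalizer_two hc P).2.2 _ hmem t htP
        (fun h => hne' (conj_eq_one_iff.mp h)) ht1)
      have hcomm : b * a * g₆ * (b * a)⁻¹ * t = t * (b * a * g₆ * (b * a)⁻¹) := by
        rw [← hb]
        calc b * a * g₆ * (b * a)⁻¹ * (b * (a * g₆ ^ 3 * a⁻¹) * b⁻¹) = b * a * (g₆ * g₆ ^ 3) * (b * a)⁻¹ := by group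
          _ = b * a * (g₆ ^ 3 * g₆) * (b * a)⁻¹ := by rw [((Commute.refl g₆).pow_right 3).eq]
          _ = b * (a * g₆ ^ 3 * a⁻¹) * b⁻¹ * (b * a * g₆ * (b * a)⁻¹) := by group
      have h6 : orderOf (b * a * g₆ * (b * a)⁻¹) = 6 := by
        rw [← hg₆]
        exact orderOf_injective (MulAut.conj (b * a)).toMonoidHom (MulAut.conj (b * a)).injective g₆
      have h62 : orderOf ((b * a * g₆ * (b * a)⁻¹) ^ 2) = 3 := by
        rw [orderOf_pow_of_dvd (by norm_num) (by rw [h6]; norm_num), h6]
      rw [← h62]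
      exact (centralizer ({t} : Set K)).orderOf_dvd_natCard (pow_mem (mem_centralizer_singleton_iff.mpr hcomm) 2)
  have of12 : 12 ∣ Nat.card (normalizer (H : Set K)) → Nat.card (normalizer (H : Set K)) = 12 := by
    intro h
    rcases card_cases hc hN with h' | h' | h'
    · exact Nat.dvd_antisymm h' h
    · exact absurd (h.trans h') (by norm_num)
    · exact absurd (h.trans h') (by norm_num)
  by_cases h7 : 7 ∣ Nat.card H
  · right; left
    obtain ⟨P, hPH, hHP⟩ := card_dvd_of_seven hc h2 h7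
    obtain ⟨hP7, hNP⟩ := normalizer_seven hc P
    have hdvd : 14 ∣ Nat.card (normalizer (H : Set K)) := by
      have hd : Nat.card H ∣ 14 := hNP ▸ Subgroup.card_dvd_of_le hHP
      have hd7 : 7 ∣ Nat.card H := h7
      have hH : Nat.card H = 7 ∨ Nat.card H = 14 := by
        have := Nat.le_of_dvd (by norm_num) hd
        obtain ⟨c, hc7⟩ := hd7
        have : 0 < Nat.card H := Nat.card_pos
        omega
      rcases hH with hH | hH
      · have e : (P : Subgroup K) = H := eq_of_le_of_card_ge hPH (by rw [hP7, hH])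
        rw [← e, hNP]
      · exact (hH ▸ dvd_rfl : 14 ∣ Nat.card H).trans hHN
    rcases card_cases hc hN with h' | h' | h'
    · exact absurd (hdvd.trans h') (by norm_num)
    · exact Nat.dvd_antisymm h' hdvd
    · exact absurd (hdvd.trans h') (by norm_num)
  by_cases h13 : 13 ∣ Nat.card H
  · right; right
    obtain ⟨P, hPH, hHP⟩ := card_dvd_of_thirteen hc h2 h13
    obtain ⟨hP13, hNP⟩ := normalizer_thirteen hc P
    have hCP : ∀ w ∈ centralizer ((P : Subgroup K) : Set K), w ∈ (P : Subgroup K) := by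
      intro w hw
      set C := centralizer ((P : Subgroup K) : Set K) with hC
      obtain ⟨hb, ht⟩ := ne_bot_top_of_card hc hP13 (by norm_num) (by norm_num)
      haveI : IsCyclic (P : Subgroup K) := isCyclic_of_prime_card hP13
      have hPC : (P : Subgroup K) ≤ C := Subgroup.le_centralizer _
      have hCN : C ≤ normalizer ((P : Subgroup K) : Set K) := centralizer_le_normalizer _
      obtain ⟨x, hx⟩ := (Subgroup.isCyclic_iff_exists_zpowers_eq_top (P : Subgroup K)).mp inferInstance
      have hx13 : orderOf x = 13 := by rw [← Nat.card_zpowers, hx, hP13]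
      have hnot : ∀ r, r.Prime → r ≠ 13 → ¬ r ∣ Nat.card C := by
        intro r hr hr13 hrC
        haveI := Fact.mk hr
        obtain ⟨⟨y, hy⟩, hyo⟩ := exists_prime_orderOf_dvd_card' (G := C) r hrC
        rw [Subgroup.orderOf_mk] at hyo
        have hr78 : r ∣ 78 := hrC.trans (hNP ▸ Subgroup.card_dvd_of_le hCN)
        have hxy : x * y = y * x := mem_centralizer_iff.mp hy x (hx ▸ mem_zpowers x)
        have hr23 : r = 2 ∨ r = 3 := by
          have := Nat.le_of_dvd (by norm_num) hr78
          interval_cases r <;> first | omega | (norm_num at hr) | (norm_num at hr78)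
        rcases hr23 with rfl | rfl
        · obtain ⟨hd, hne⟩ := hinv y hyo
          have h13c : 13 ∣ Nat.card (centralizer ({y} : Set K)) := hx13 ▸
            (centralizer ({y} : Set K)).orderOf_dvd_natCard (mem_centralizer_singleton_iff.mpr hxy)
          rcases card_cases hc hne with h | h | h
          · exact absurd (h13c.trans h) (by norm_num)
          · exact absurd (h13c.trans h) (by norm_num)
          · exact absurd (hd.trans h) (by norm_num)
        · obtain ⟨Q, hQ⟩ := (IsPGroup.of_card (p := 3) (n := 1)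
            (show Nat.card (zpowers y) = 3 ^ 1 by rw [Nat.card_zpowers, hyo, pow_one])).exists_le_sylow
          have e : zpowers y = (Q : Subgroup K) := eq_of_le_of_card_ge hQ
            (by rw [(normalizer_three hc Q).1, Nat.card_zpowers, hyo])
          have hxN : x ∈ normalizer ((Q : Subgroup K) : Set K) := by
            rw [← e]
            refine centralizer_le_normalizer _ ?_
            rw [mem_centralizer_iff]
            rintro _ ⟨i, rfl⟩
            exact ((show Commute x y from hxy).zpow_right i).eq.symm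
          have h13n := (normalizer ((Q : Subgroup K) : Set K)).orderOf_dvd_natCard hxN
          rw [hx13, (normalizer_three hc Q).2] at h13n
          norm_num at h13n
      have hC13 : Nat.card C ∣ 13 := by
        have h78 : Nat.card C ∣ 6 * 13 := by
          have hd := Subgroup.card_dvd_of_le hCN
          rwa [hNP] at hd
        refine Nat.Coprime.dvd_of_dvd_mul_left ?_ h78
        rw [show 6 = 2 * 3 by norm_num]
        exact Nat.Coprime.mul_right (Nat.coprime_comm.mp ((Nat.Prime.coprime_iff_not_dvd Nat.prime_two).mpr (hnot 2 Nat.prime_two (by norm_num))))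
          (Nat.coprime_comm.mp ((Nat.Prime.coprime_iff_not_dvd Nat.prime_three).mpr (hnot 3 Nat.prime_three (by norm_num))))
      exact (eq_of_le_of_card_ge hPC (by rw [hP13]; exact Nat.le_of_dvd (by norm_num) hC13)).symm ▸ hw
    have hle : normalizer ((P : Subgroup K) : Set K) ≤ normalizer (H : Set K) := by
      haveI : IsCyclic (P : Subgroup K) := isCyclic_of_prime_card hP13
      obtain ⟨x, hx⟩ := (Subgroup.isCyclic_iff_exists_zpowers_eq_top (P : Subgroup K)).mp inferInstance
      have key : ∀ w ∈ normalizer ((P : Subgroup K) : Set K), ∀ h ∈ H, w * h * w⁻¹ ∈ H := by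
        intro w hw h hh
        obtain ⟨i, hi⟩ := mem_zpowers_iff.mp (hx ▸ (mem_normalizer_iff.mp hw x).mp (hx ▸ mem_zpowers x) : w * x * w⁻¹ ∈ zpowers x)
        obtain ⟨j, hj⟩ := mem_zpowers_iff.mp (hx ▸ (mem_normalizer_iff.mp (hHP hh) x).mp (hx ▸ mem_zpowers x) : h * x * h⁻¹ ∈ zpowers x)
        have e1 : (w * h) * x * (w * h)⁻¹ = (h * w) * x * (h * w)⁻¹ := by
          calc (w * h) * x * (w * h)⁻¹ = w * (h * x * h⁻¹) * w⁻¹ := by group
            _ = (w * x * w⁻¹) ^ j := by rw [← hj, conj_zpow]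
            _ = (x ^ j) ^ i := by rw [← hi, ← zpow_mul, ← zpow_mul, mul_comm]
            _ = (h * x * h⁻¹) ^ i := by rw [hj]
            _ = h * (w * x * w⁻¹) * h⁻¹ := by rw [conj_zpow, hi]
            _ = (h * w) * x * (h * w)⁻¹ := by group
        have hc' : (h * w)⁻¹ * (w * h) ∈ centralizer ((P : Subgroup K) : Set K) := by
          rw [← hx, mem_centralizer_iff]
          rintro _ ⟨k, rfl⟩
          have e2 : Commute x ((h * w)⁻¹ * (w * h)) := by
            show x * ((h * w)⁻¹ * (w * h)) = ((h * w)⁻¹ * (w * h)) * x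
            calc x * ((h * w)⁻¹ * (w * h)) = (h * w)⁻¹ * ((h * w) * x * (h * w)⁻¹) * (w * h) := by group
              _ = (h * w)⁻¹ * ((w * h) * x * (w * h)⁻¹) * (w * h) := by rw [e1]
              _ = (h * w)⁻¹ * (w * h) * x := by group
          exact (e2.zpow_left k).eq
        have hp' := hCP _ hc'
        have e : w * h * w⁻¹ = h * (w * ((h * w)⁻¹ * (w * h)) * w⁻¹) := by group
        rw [e]
        exact mul_mem hh (hPH ((mem_normalizer_iff.mp hw _).mp hp'))
      intro w hw
      rw [mem_normalizer_iff]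
      intro h
      refine ⟨key w hw h, fun hh => ?_⟩
      simpa [mul_assoc] using key w⁻¹ (inv_mem hw) _ hh
    have hd : 78 ∣ Nat.card (normalizer (H : Set K)) := hNP ▸ Subgroup.card_dvd_of_le hle
    rcases card_cases hc hN with h' | h' | h'
    · exact absurd (hd.trans h') (by norm_num)
    · exact absurd (hd.trans h') (by norm_num)
    · exact Nat.dvd_antisymm h' hd
  left
  have hH12 : Nat.card H ∣ 12 := by
    refine Nat.Coprime.dvd_of_dvd_mul_right (n := 91) ?_ ?_; swap; · exact (H.card_subgroup_dvd_card).trans hc.dvd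
    rw [show 91 = 7 * 13 by norm_num]
    exact Nat.Coprime.mul_right (Nat.coprime_comm.mp ((Nat.Prime.coprime_iff_not_dvd (by norm_num)).mpr h7))
      (Nat.coprime_comm.mp ((Nat.Prime.coprime_iff_not_dvd (by norm_num)).mpr h13))
  apply of12
  have h1' : Nat.card H ≠ 1 := fun h => h1 (Subgroup.card_eq_one.mp h)
  have hle := Nat.le_of_dvd (by norm_num) hH12
  have hH : Nat.card H = 2 ∨ Nat.card H = 3 ∨ Nat.card H = 4 ∨ Nat.card H = 6 ∨ Nat.card H = 12 := by
    have : Nat.card H ∈ Nat.divisors 12 := Nat.mem_divisors.mpr ⟨hH12, by norm_num⟩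
    rw [show Nat.divisors 12 = {1, 2, 3, 4, 6, 12} by decide] at this
    simp only [Finset.mem_insert, Finset.mem_singleton] at this
    omega
  rcases hH with hH | hH | hH | hH | hH
  · -- order two
    obtain ⟨⟨t, htH⟩, ht⟩ := exists_prime_orderOf_dvd_card' (G := H) 2 (hH ▸ dvd_rfl)
    rw [Subgroup.orderOf_mk] at ht
    have e : zpowers t = H := eq_of_le_of_card_ge (zpowers_le.mpr htH) (by rw [hH, Nat.card_zpowers, ht])
    refine (hinv t ht).1.trans (Subgroup.card_dvd_of_le ?_)
    rw [← e]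
    refine le_trans ?_ (centralizer_le_normalizer _)
    intro w hw
    rw [mem_centralizer_iff]
    rintro _ ⟨i, rfl⟩
    exact ((show Commute w t from mem_centralizer_singleton_iff.mp hw).zpow_right i).eq.symm
  · obtain ⟨P, hP⟩ := (IsPGroup.of_card (p := 3) (n := 1) (by rw [hH, pow_one])).exists_le_sylow
    have e : H = (P : Subgroup K) := eq_of_le_of_card_ge hP (by rw [(normalizer_three hc P).1, hH])
    rw [e, (normalizer_three hc P).2]
  · obtain ⟨P, hP⟩ := (IsPGroup.of_card (p := 2) (n := 2) (by rw [hH]; norm_num)).exists_le_sylow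
    have e : H = (P : Subgroup K) := eq_of_le_of_card_ge hP (by rw [(normalizer_two hc P).1, hH])
    rw [e, (normalizer_two hc P).2.1]
  · -- order six
    obtain ⟨⟨x, hxH⟩, hx⟩ := exists_prime_orderOf_dvd_card' (G := H) 3 (hH ▸ by norm_num)
    rw [Subgroup.orderOf_mk] at hx
    obtain ⟨P, hP⟩ := (IsPGroup.of_card (p := 3) (n := 1)
      (show Nat.card (zpowers x) = 3 ^ 1 by rw [Nat.card_zpowers, hx, pow_one])).exists_le_sylow
    obtain ⟨hP3, hNP⟩ := normalizer_three hc P
    have e : zpowers x = (P : Subgroup K) := eq_of_le_of_card_ge hP (by rw [hP3, Nat.card_zpowers, hx])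
    have hPH : (P : Subgroup K) ≤ H := e ▸ zpowers_le.mpr hxH
    haveI : ((P : Subgroup K).subgroupOf H).Normal := Subgroup.normal_of_index_eq_two (by
      have h := ((P : Subgroup K).subgroupOf H).card_mul_index
      rw [Nat.card_congr (subgroupOfEquivOfLe hPH).toEquiv, hP3, hH] at h
      omega)
    have hHP : H ≤ normalizer ((P : Subgroup K) : Set K) := (normal_subgroupOf_iff_le_normalizer hPH).mp inferInstance
    haveI : (H.subgroupOf (normalizer ((P : Subgroup K) : Set K))).Normal := Subgroup.normal_of_index_eq_two (by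
      have h := (H.subgroupOf (normalizer ((P : Subgroup K) : Set K))).card_mul_index
      rw [Nat.card_congr (subgroupOfEquivOfLe hHP).toEquiv, hH, hNP] at h
      omega)
    exact hNP ▸ Subgroup.card_dvd_of_le ((normal_subgroupOf_iff_le_normalizer hHP).mp inferInstance)
  · exact (hH ▸ dvd_rfl : 12 ∣ Nat.card H).trans hHN

theorem isCoatom_normalizer (hc : Nat.card K = 1092) (g₆ : K) (hg₆ : orderOf g₆ = 6) {H : Subgroup K}
    (h1 : H ≠ ⊥) (h2 : H ≠ ⊤) : IsCoatom (normalizer (H : Set K)) := by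
  refine ⟨normalizer_ne_top h1 h2, fun M hM => ?_⟩
  by_contra hMt
  have hd := Subgroup.card_dvd_of_le hM.le
  have hlt : Nat.card (normalizer (H : Set K)) < Nat.card M := by
    refine lt_of_le_of_ne (Nat.le_of_dvd Nat.card_pos hd) fun h => hM.ne ?_
    exact eq_of_le_of_card_ge hM.le h.ge
  rcases normalizer_card hc g₆ hg₆ h1 h2 with h | h | h <;> rw [h] at hd hlt <;>
    rcases card_cases hc hMt with h' | h' | h' <;>
    first
      | exact absurd (Nat.le_of_dvd (by norm_num) h') (by omega)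
      | exact absurd (hd.trans h') (by norm_num)

end Abstract

end Cfsg.Agent.Lib.PSLThirteen
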